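import Mathlib

/-!
# Arithmetic for the Sylow subgroups of the small Ree groups (helper8)
-/

set_option autoImplicit false

namespace Cfsg.Agent.Lib.Helper8.ReeSyl

section zmod

variable {p : ℕ} [Fact p.Prime]

theorem zmod_three_ne (hp : 3 < p) : (3 : ZMod p) ≠ 0 := by
  intro h
  have h' : ((3 : ℕ) : ZMod p) = 0 := by exact_mod_cast h
  rw [ZMod.natCast_eq_zero_iff] at h'
  exact absurd (Nat.le_of_dvd (by norm_num) h') (by omega)

theorem zmod_two_ne (hp : 3 < p) : (2 : ZMod p) ≠ 0 := by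
  intro h
  have h' : ((2 : ℕ) : ZMod p) = 0 := by exact_mod_cast h
  rw [ZMod.natCast_eq_zero_iff] at h'
  exact absurd (Nat.le_of_dvd (by norm_num) h') (by omega)

/-- a root of `x² - x + 1` has multiplicative order six -/
theorem zmod_six (hp : 3 < p) (x : ZMod p) (hC : x ^ 2 - x + 1 = 0) (j : ℕ) (hj1 : 1 ≤ j)
    (hj7 : j ≤ 7) (h : x ^ j = 1) : j = 6 := by
  have h3 := zmod_three_ne hp
  have h2 := zmod_two_ne hp
  have h1 : (1 : ZMod p) ≠ 0 := one_ne_zero
  interval_cases j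
  · exfalso; apply h1
    linear_combination hC - x * h
  · exfalso; apply h3
    linear_combination (2 + x) * hC - (1 + x) * h
  · exfalso; apply h2
    linear_combination (x + 1) * hC - h
  · exfalso; apply h3
    linear_combination hC + (x - 2) * (h - x * (x + 1) * hC)
  · exfalso; apply h1
    linear_combination (x - 1) * h + (x - (x - 1) * x ^ 2 * (x + 1)) * hC
  · rfl
  · exfalso; apply h1
    linear_combination hC - x * (h - x * (x ^ 3 - 1) * (x + 1) * hC)

theorem dvd_pow_sub_one_iff (q j : ℕ) (hq : 1 ≤ q) :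
    p ∣ q ^ j - 1 ↔ (q : ZMod p) ^ j = 1 := by
  rw [← ZMod.natCast_eq_zero_iff, Nat.cast_sub (Nat.one_le_pow _ _ hq), Nat.cast_pow, Nat.cast_one,
    sub_eq_zero]

theorem dvd_quad_iff (q : ℕ) (hq : 1 ≤ q) :
    p ∣ q * (q - 1) + 1 ↔ (q : ZMod p) ^ 2 - (q : ZMod p) + 1 = 0 := by
  rw [← ZMod.natCast_eq_zero_iff, Nat.cast_add, Nat.cast_mul, Nat.cast_sub hq, Nat.cast_one]
  constructor
  · intro h; linear_combination h
  · intro h; linear_combination h

theorem dvd_succ_iff (q : ℕ) : p ∣ q + 1 ↔ (q : ZMod p) = -1 := by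
  rw [← ZMod.natCast_eq_zero_iff, Nat.cast_add, Nat.cast_one]
  constructor
  · intro h; linear_combination h
  · intro h; linear_combination h

theorem dvd_pred_iff (q : ℕ) (hq : 1 ≤ q) : p ∣ q - 1 ↔ (q : ZMod p) = 1 := by
  rw [← ZMod.natCast_eq_zero_iff, Nat.cast_sub hq, Nat.cast_one, sub_eq_zero]

end zmod

/-- `q³ + 1 = (q + 1) (q (q - 1) + 1)` -/
theorem cube_succ (q : ℕ) (hq : 1 ≤ q) : q ^ 3 + 1 = (q + 1) * (q * (q - 1) + 1) := by
  obtain ⟨k, rfl⟩ : ∃ k, q = k + 1 := ⟨q - 1, by omega⟩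
  rw [Nat.add_sub_cancel]
  ring

end Cfsg.Agent.Lib.Helper8.ReeSyl
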