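import Cfsg.Agent.Lib.Helper8.ReeSyl.Rep7
import Mathlib

/-!
# The 7-dimensional representation is faithful on the small Ree groups (helper8)
-/

set_option autoImplicit false

namespace Cfsg.Agent.Lib.Helper8.ReeSyl

open Cfsg.Lie Cfsg.Agent.Lib.Helper5.Chev Cfsg.Agent.Lib.Helper5.Ree
open scoped Matrix

theorem ck_row10 : ∀ s : Fin 12, chevG2.chainCoeff 8 s.val 10 = [] := by decide +kernel

section entries

variable {K : Type*} [Field K]

/-- the root `a + b` -/
def r8 : Fin chevG2.nroots := ⟨8, by decide⟩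
/-- the root `3a + b` -/
def r10 : Fin chevG2.nroots := ⟨10, by decide⟩
/-- the root `-3a - b` -/
def r1 : Fin chevG2.nroots := ⟨1, by decide⟩

theorem xMat8_row10 (t : K) (col : chevG2.Idx) :
    chevG2.xMat K r8 t (Sum.inr r10) col = if col = Sum.inr r10 then 1 else 0 := by
  rcases col with i | s
  · simp only [ChevalleyDatum.xMat, Matrix.of_apply]
    rw [if_neg (by decide), if_neg (by simp)]
  · have hne : ¬ (r10 = r8) := by decide
    have hinr : (Sum.inr s = (Sum.inr r10 : chevG2.Idx)) ↔ s = r10 :=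
      ⟨fun h => Sum.inr.inj h, fun h => by rw [h]⟩
    simp only [ChevalleyDatum.xMat, Matrix.of_apply]
    by_cases h1 : s = r8
    · rw [if_pos h1, if_neg hne, if_neg]
      rw [hinr, h1]
      decide
    · rw [if_neg h1]
      by_cases h2 : s.val = chevG2.negIdx.getD r8.val 0
      · rw [if_pos h2, if_neg, if_neg hne, if_neg]
        · rw [hinr]
          intro h
          rw [h] at h2
          revert h2
          decide
        · intro h
          rw [← h] at h2
          revert h2
          decide
      · rw [if_neg h2]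
        have this : chevG2.chainCoeff r8.val s.val r10.val = [] := ck_row10 s
        rw [this]
        simp only [List.map_nil, List.sum_nil, add_zero]
        by_cases h3 : s = r10
        · rw [if_pos h3.symm, if_pos (by rw [h3])]
        · rw [if_neg (fun h : r10 = s => h3 h.symm), if_neg (fun h => h3 (Sum.inr.inj h))]

theorem xMat10_entry (t : K) :
    chevG2.xMat K r10 t (Sum.inr r10) (Sum.inr r1) = -(t ^ 2) := by
  simp only [ChevalleyDatum.xMat, Matrix.of_apply]
  rw [if_neg (by decide), if_pos (by decide), if_neg (by decide), if_pos trivial]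

theorem prod_entry :
    (chevG2.xMat K r8 1 * chevG2.xMat K r10 1) (Sum.inr r10) (Sum.inr r1) = -1 := by
  rw [Matrix.mul_apply, Finset.sum_eq_single (Sum.inr r10)]
  · rw [xMat8_row10, if_pos rfl, xMat10_entry]
    simp
  · intro k _ hk
    rw [xMat8_row10, if_neg hk, zero_mul]
  · intro h
    exact absurd (Finset.mem_univ _) h

end entries

section faithful

variable {K : Type*} [Field K] [Fintype K] [CharP K 3] {m : ℕ}

theorem twisted_le_triSub (hK : Fintype.card K = 3 ^ (2 * m + 1)) :
    twistedG2 K (3 ^ m) ≤ triSub K :=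
  (twisted_le_fixR hK).trans ((fixR_le_group hK).trans group_le_triSub)

/-- the 7-dimensional representation of the small Ree group -/
def rhoT (hK : Fintype.card K = 3 ^ (2 * m + 1)) : ↥(twistedG2 K (3 ^ m)) →* GL Jt K :=
  (rho K).comp (Subgroup.inclusion (twisted_le_triSub hK))

theorem rhoT_val (hK : Fintype.card K = 3 ^ (2 * m + 1)) (g : ↥(twistedG2 K (3 ^ m))) :
    ((rhoT hK g : GL Jt K) : Matrix Jt Jt K)
      = blk ((g : GL chevG2.Idx K) : Matrix chevG2.Idx chevG2.Idx K) := rfl

theorem rhoT_injective (hK : Fintype.card K = 3 ^ (2 * m + 1)) (hm : 1 ≤ m) :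
    Function.Injective (rhoT hK) := by
  have hs : IsSimpleGroup ↥(twistedG2 K (3 ^ m)) := (twisted_simple hK hm).1
  rcases hs.eq_bot_or_eq_top_of_normal (rhoT hK).ker inferInstance with h | h
  · exact (MonoidHom.ker_eq_bot_iff _).1 h
  · exfalso
    let g₀ : ↥(twistedG2 K (3 ^ m)) :=
      ⟨(hadd2 K).wordU (reeWordU (3 ^ m) 0 1 0), reeU_mem _ 0 1 0⟩
    have hg : g₀ ∈ (rhoT hK).ker := by rw [h]; exact Subgroup.mem_top _
    rw [MonoidHom.mem_ker] at hg
    have h1 : ((rhoT hK g₀ : GL Jt K) : Matrix Jt Jt K) = 1 := by rw [hg]; rfl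
    rw [rhoT_val] at h1
    have h2 : ((g₀ : GL chevG2.Idx K) : Matrix chevG2.Idx chevG2.Idx K)
        = chevG2.xMat K r8 1 * chevG2.xMat K r10 1 := by
      show (((hadd2 K).wordU (reeWordU (3 ^ m) 0 1 0) : GL chevG2.Idx K) :
        Matrix chevG2.Idx chevG2.Idx K) = _
      rw [yU_eq, map_one, Units.val_mul, AllAdd.xU_val, AllAdd.xU_val,
        x_eq_xMat 8 (by decide), x_eq_xMat 10 (by decide)]
      rfl
    rw [h2] at h1
    have h3 := congrFun (congrFun h1 ⟨Sum.inr r10, by decide⟩) ⟨Sum.inr r1, by decide⟩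
    simp only [blk, Matrix.submatrix_apply] at h3
    rw [prod_entry, Matrix.one_apply, if_neg (by decide)] at h3
    exact absurd h3 (by simp)

end faithful

end Cfsg.Agent.Lib.Helper8.ReeSyl
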