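import Cfsg.Agent.Lib.Helper8.ReeSyl.SylSub
import Mathlib

/-!
# `p`-subgroups of `GL_n(q)` are cyclic when `ord_p(q) ≤ n < 2 ord_p(q)` (helper8)
-/

set_option autoImplicit false

namespace Cfsg.Agent.Lib.Helper8.ReeSyl

open Finset
open scoped Matrix

/-- the `p`-part of the order formula of `GL_n(q)` when exactly one factor `q^j - 1`, `j ≤ n`, is
divisible by `p` -/
theorem vp_prod (q n d p : ℕ) [Fact p.Prime] (hq : 2 ≤ q) (hpq : ¬ p ∣ q) (hd : 1 ≤ d)
    (hdn : d ≤ n) (honly : ∀ j, 1 ≤ j → j ≤ n → p ∣ q ^ j - 1 → j = d) :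
    (∏ i : Fin n, (q ^ n - q ^ (i : ℕ))).factorization p = (q ^ d - 1).factorization p := by
  rw [Fin.prod_univ_eq_prod_range (fun i => q ^ n - q ^ i) n]
  have hne : ∀ i ∈ range n, q ^ n - q ^ i ≠ 0 := by
    intro i hi
    have hi' : i < n := mem_range.1 hi
    have : q ^ i < q ^ n := Nat.pow_lt_pow_right (by omega) hi'
    omega
  rw [Nat.factorization_prod hne, Finsupp.finsetSum_apply]
  have hterm : ∀ i ∈ range n,
      (q ^ n - q ^ i).factorization p = (q ^ (n - 1 - i + 1) - 1).factorization p := by
    intro i hi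
    have hi' : i < n := mem_range.1 hi
    have e : q ^ n - q ^ i = q ^ i * (q ^ (n - 1 - i + 1) - 1) := by
      have : n = i + (n - 1 - i + 1) := by omega
      conv_lhs => rw [this, pow_add]
      rw [Nat.mul_sub, mul_one]
    have h1 : q ^ i ≠ 0 := by positivity
    have h2 : q ^ (n - 1 - i + 1) - 1 ≠ 0 := by
      have : 1 < q ^ (n - 1 - i + 1) := Nat.one_lt_pow (by omega) (by omega)
      omega
    rw [e, Nat.factorization_mul h1 h2, Finsupp.add_apply, Nat.factorization_pow,
      Finsupp.smul_apply, Nat.factorization_eq_zero_of_not_dvd hpq]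
    simp
  rw [sum_congr rfl hterm, sum_range_reflect (fun k => (q ^ (k + 1) - 1).factorization p) n]
  rw [sum_eq_single (d - 1)]
  · have : d - 1 + 1 = d := by omega
    rw [this]
  · intro k hk hkd
    apply Nat.factorization_eq_zero_of_not_dvd
    intro hdvd
    have := honly (k + 1) (by omega) (by have := mem_range.1 hk; omega) hdvd
    omega
  · intro h
    exfalso
    apply h
    rw [mem_range]
    omega

section singer

variable (K : Type*) [Field K]

/-- multiplication by `x` on the first factor -/
noncomputable def singerEnd (L M : Type*) [Field L] [Algebra K L] [AddCommGroup M] [Module K M] :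
    L →* Module.End K (L × M) where
  toFun x := (LinearMap.mulLeft K x).prodMap LinearMap.id
  map_one' := by
    apply LinearMap.ext
    rintro ⟨a, b⟩
    simp
  map_mul' x y := by
    apply LinearMap.ext
    rintro ⟨a, b⟩
    simp

theorem singerEnd_injective (L M : Type*) [Field L] [Algebra K L] [AddCommGroup M] [Module K M] :
    Function.Injective (singerEnd K L M) := by
  intro x y h
  have := congrArg (fun f : Module.End K (L × M) => (f (1, 0)).1) h
  simpa [singerEnd] using this

variable [Fintype K]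

/-- a cyclic subgroup of order `q^d - 1` of `GL_n(q)`, `d ≤ n` -/
theorem exists_cyclic_sub (ι : Type*) [Fintype ι] [DecidableEq ι] (d : ℕ) (hd : 1 ≤ d)
    (hdn : d ≤ Fintype.card ι) :
    ∃ C : Subgroup (GL ι K), IsCyclic C ∧ Nat.card C = Fintype.card K ^ d - 1 := by
  classical
  obtain ⟨p₀, hp₀⟩ := CharP.exists K
  have : Fact p₀.Prime := ⟨CharP.char_is_prime K p₀⟩
  have : NeZero d := ⟨by omega⟩
  let L := FiniteField.Extension K p₀ d
  let M := Fin (Fintype.card ι - d) → K
  have hfr : Module.finrank K (L × M) = Fintype.card ι := by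
    rw [Module.finrank_prod, FiniteField.finrank_extension, Module.finrank_fin_fun]
    omega
  let b0 : Module.Basis (Fin (Fintype.card ι)) K (L × M) :=
    Module.finBasisOfFinrankEq K (L × M) hfr
  let b : Module.Basis ι K (L × M) := b0.reindex (Fintype.equivFin ι).symm
  let A : Module.End K (L × M) ≃ₐ[K] Matrix ι ι K := LinearMap.toMatrixAlgEquiv b
  let ψ : Lˣ →* GL ι K :=
    Units.map ((A : Module.End K (L × M) →* Matrix ι ι K).comp (singerEnd K L M))
  have hinj : Function.Injective ψ := by
    apply Units.map_injective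
    intro x y h
    exact singerEnd_injective K L M (A.injective h)
  have : Finite L := inferInstance
  refine ⟨ψ.range, ?_, ?_⟩
  · exact isCyclic_of_surjective ψ.rangeRestrict ψ.rangeRestrict_surjective
  · rw [← Nat.card_congr (MonoidHom.ofInjective hinj).toEquiv, Nat.card_units,
      FiniteField.natCard_extension, Nat.card_eq_fintype_card]

/-- the order of `GL_n(q)` for an arbitrary index type -/
theorem card_GL_idx (ι : Type*) [Fintype ι] [DecidableEq ι] :
    Nat.card (GL ι K) = ∏ i : Fin (Fintype.card ι),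
      (Fintype.card K ^ Fintype.card ι - Fintype.card K ^ (i : ℕ)) := by
  rw [← Matrix.card_GL_field]
  exact Nat.card_congr
    (Units.mapEquiv (Matrix.reindexAlgEquiv K K (Fintype.equivFin ι)).toMulEquiv).toEquiv

/-- `p`-subgroups of `GL_n(q)` are cyclic when `p ∣ q^j - 1` for exactly one `j ≤ n` -/
theorem glcyc (ι : Type*) [Fintype ι] [DecidableEq ι] (d p : ℕ) [Fact p.Prime]
    (hpq : ¬ p ∣ Fintype.card K) (hd : 1 ≤ d) (hdn : d ≤ Fintype.card ι)
    (honly : ∀ j, 1 ≤ j → j ≤ Fintype.card ι → p ∣ Fintype.card K ^ j - 1 → j = d)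
    (Q : Subgroup (GL ι K)) (hQ : IsPGroup p Q) : IsCyclic Q := by
  classical
  obtain ⟨C, hCc, hCn⟩ := exists_cyclic_sub K ι d hd hdn
  have hq : 2 ≤ Fintype.card K := Fintype.one_lt_card
  refine pgroup_cyclic_of_sub p C (fun Q' _ => inferInstance) ?_ Q hQ
  rw [card_GL_idx, hCn]
  exact vp_prod _ _ d p hq hpq hd hdn honly

end singer

end Cfsg.Agent.Lib.Helper8.ReeSyl
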