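import Cfsg.Agent.Lib.Helper8.ReeSyl.GLCyc
import Mathlib

/-!
# `p`-subgroups of `Z₂ × PSL₂(q)` are cyclic for odd `p` not dividing `q (q - 1)` (helper8)
-/

set_option autoImplicit false

namespace Cfsg.Agent.Lib.Helper8.ReeSyl

open scoped Matrix MatrixGroups

section transfer

variable {G G' : Type*} [Group G] [Group G'] (p : ℕ) [Fact p.Prime]

/-- cyclicity of all `p`-subgroups passes to quotients -/
theorem pgroup_cyclic_of_surjective [Finite G] (f : G →* G') (hf : Function.Surjective f)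
    (hG : ∀ Q : Subgroup G, IsPGroup p Q → IsCyclic Q)
    (Q : Subgroup G') (hQ : IsPGroup p Q) : IsCyclic Q := by
  have : Finite G' := Finite.of_surjective f hf
  obtain ⟨R, hR⟩ := hQ.exists_le_sylow
  obtain ⟨P, rfl⟩ := Sylow.mapSurjective_surjective hf p R
  have hP : IsCyclic (P : Subgroup G) := hG P P.isPGroup'
  have hR' : IsCyclic ((P : Subgroup G).map f) :=
    isCyclic_of_surjective (f.subgroupMap (P : Subgroup G)) (f.subgroupMap_surjective _)
  have hR'' : IsCyclic ((P.mapSurjective hf : Sylow p G') : Subgroup G') := hR'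
  exact isCyclic_of_injective (Subgroup.inclusion hR) (Subgroup.inclusion_injective hR)

omit [Fact p.Prime] in
/-- cyclicity of all `p`-subgroups passes to groups that embed -/
theorem pgroup_cyclic_of_injective (f : G →* G') (hf : Function.Injective f)
    (hG' : ∀ Q : Subgroup G', IsPGroup p Q → IsCyclic Q)
    (Q : Subgroup G) (hQ : IsPGroup p Q) : IsCyclic Q := by
  have h1 : IsCyclic (Q.map f) := hG' (Q.map f) (hQ.map f)
  exact isCyclic_of_injective (Q.equivMapOfInjective f hf).toMonoidHom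
    (Q.equivMapOfInjective f hf).injective

/-- a factor of order prime to `p` can be dropped -/
theorem pgroup_cyclic_prod_two (hp2 : p ≠ 2)
    (hG' : ∀ Q : Subgroup G', IsPGroup p Q → IsCyclic Q)
    (Q : Subgroup (Multiplicative (ZMod 2) × G')) (hQ : IsPGroup p Q) : IsCyclic Q := by
  have hp : p.Prime := Fact.out
  let f : Q →* G' := (MonoidHom.snd _ _).comp Q.subtype
  have hf : Function.Injective f := by
    rw [injective_iff_map_eq_one]
    rintro ⟨⟨a, b⟩, hab⟩ h
    have hb : b = 1 := h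
    subst hb
    obtain ⟨k, hk⟩ := hQ ⟨⟨a, 1⟩, hab⟩
    have hk' : a ^ p ^ k = 1 := by
      have := congrArg (fun x : Q => (x : Multiplicative (ZMod 2) × G').1) hk
      simpa using this
    have h2 : a ^ 2 = 1 := by
      have : ∀ x : Multiplicative (ZMod 2), x ^ 2 = 1 := by decide
      exact this a
    have hcop : Nat.Coprime (p ^ k) 2 := by
      apply Nat.Coprime.pow_left
      exact (Nat.coprime_primes hp Nat.prime_two).2 hp2
    have ha : a = 1 := by
      have h1 := orderOf_dvd_of_pow_eq_one hk'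
      have h2' := orderOf_dvd_of_pow_eq_one h2
      have := Nat.dvd_gcd h1 h2'
      rw [hcop.gcd_eq_one, Nat.dvd_one] at this
      exact orderOf_eq_one_iff.1 this
    subst ha
    rfl
  have h1 : IsCyclic (f.range) :=
    hG' f.range (hQ.of_surjective f.rangeRestrict f.rangeRestrict_surjective)
  exact isCyclic_of_injective f.rangeRestrict (by
    intro x y h
    apply hf
    exact congrArg Subtype.val h)

end transfer

section psl

variable (K : Type*) [Field K] [Fintype K] (p : ℕ) [Fact p.Prime]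

theorem gl2_pgroup_cyclic (hpq : ¬ p ∣ Fintype.card K) (hp1 : ¬ p ∣ Fintype.card K - 1)
    (Q : Subgroup (GL (Fin 2) K)) (hQ : IsPGroup p Q) : IsCyclic Q := by
  refine glcyc K (Fin 2) 2 p hpq (by norm_num) (by simp) ?_ Q hQ
  intro j hj1 hj2 hdvd
  rw [Fintype.card_fin] at hj2
  interval_cases j
  · rw [pow_one] at hdvd
    exact absurd hdvd hp1
  · rfl

theorem sl2_pgroup_cyclic (hpq : ¬ p ∣ Fintype.card K) (hp1 : ¬ p ∣ Fintype.card K - 1)
    (Q : Subgroup (Matrix.SpecialLinearGroup (Fin 2) K)) (hQ : IsPGroup p Q) : IsCyclic Q :=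
  pgroup_cyclic_of_injective p Matrix.SpecialLinearGroup.toGL
    Matrix.SpecialLinearGroup.toGL_injective (gl2_pgroup_cyclic K p hpq hp1) Q hQ

theorem psl2_pgroup_cyclic (hpq : ¬ p ∣ Fintype.card K) (hp1 : ¬ p ∣ Fintype.card K - 1)
    (Q : Subgroup (Matrix.ProjectiveSpecialLinearGroup (Fin 2) K)) (hQ : IsPGroup p Q) :
    IsCyclic Q :=
  pgroup_cyclic_of_surjective p
    (QuotientGroup.mk' (Subgroup.center (Matrix.SpecialLinearGroup (Fin 2) K)))
    (QuotientGroup.mk'_surjective _) (sl2_pgroup_cyclic K p hpq hp1) Q hQ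

theorem two_psl2_pgroup_cyclic (hp2 : p ≠ 2) (hpq : ¬ p ∣ Fintype.card K)
    (hp1 : ¬ p ∣ Fintype.card K - 1)
    (Q : Subgroup (Multiplicative (ZMod 2) × Matrix.ProjectiveSpecialLinearGroup (Fin 2) K))
    (hQ : IsPGroup p Q) : IsCyclic Q :=
  pgroup_cyclic_prod_two p hp2 (psl2_pgroup_cyclic K p hpq hp1) Q hQ

end psl

end Cfsg.Agent.Lib.Helper8.ReeSyl
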