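import Cfsg.Agent.Lib.Helper8.ReeSyl.Faithful
import Cfsg.Agent.Lib.Helper8.ReeSyl.PSL2
import Cfsg.Agent.Lib.Helper8.ReeSyl.Arith
import Cfsg.Agent.Lib.Helper8.FourOrbC
import Cfsg.Agent.Lib.Helper5.Ree.Cent4
import Cfsg.Agent.Lib.Helper5.Ree.Order
import Mathlib

/-!
# The Sylow `p`-subgroups of the small Ree groups are cyclic for `p > 3` (helper8)
-/

set_option autoImplicit false

namespace Cfsg.Agent.Lib.Helper8.ReeSyl

open Cfsg.Lie Cfsg.Agent.Lib.Helper5.Chev Cfsg.Agent.Lib.Helper5.Ree
open scoped Matrix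

theorem fact_mul_right {p a b : ℕ} (ha : a ≠ 0) (hb : b ≠ 0) (h : ¬ p ∣ b) :
    (a * b).factorization p = a.factorization p := by
  rw [Nat.factorization_mul ha hb, Finsupp.add_apply, Nat.factorization_eq_zero_of_not_dvd h,
    add_zero]

theorem fact_mul_left {p a b : ℕ} (ha : a ≠ 0) (hb : b ≠ 0) (h : ¬ p ∣ a) :
    (a * b).factorization p = b.factorization p := by
  rw [Nat.factorization_mul ha hb, Finsupp.add_apply, Nat.factorization_eq_zero_of_not_dvd h,
    zero_add]

section psl

variable (K : Type*) [Field K] [Fintype K]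

/-- the `p`-part of the order of `PSL₂(q)` for `p > 2` -/
theorem fact_psl2 (p : ℕ) [Fact p.Prime] (hp : 2 < p) :
    (Nat.card (Matrix.ProjectiveSpecialLinearGroup (Fin 2) K)).factorization p
      = (Nat.card (Matrix.SpecialLinearGroup (Fin 2) K)).factorization p := by
  classical
  have hL := Subgroup.card_eq_card_quotient_mul_card_subgroup
    (Subgroup.center (Matrix.SpecialLinearGroup (Fin 2) K))
  have : NeZero (Fintype.card (Fin 2)) := ⟨by simp⟩
  have hZ : Nat.card (Subgroup.center (Matrix.SpecialLinearGroup (Fin 2) K)) ≤ 2 := by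
    rw [Nat.card_congr (Matrix.SpecialLinearGroup.center_equiv_rootsOfUnity' (0 : Fin 2)).toEquiv]
    exact (card_rootsOfUnity _ _).trans (by simp)
  have hZ0 : Nat.card (Subgroup.center (Matrix.SpecialLinearGroup (Fin 2) K)) ≠ 0 :=
    Nat.card_pos.ne'
  have hP0 : Nat.card (Matrix.SpecialLinearGroup (Fin 2) K ⧸
      Subgroup.center (Matrix.SpecialLinearGroup (Fin 2) K)) ≠ 0 := Nat.card_pos.ne'
  have hnd : ¬ p ∣ Nat.card (Subgroup.center (Matrix.SpecialLinearGroup (Fin 2) K)) := by
    intro h
    have := Nat.le_of_dvd (Nat.pos_of_ne_zero hZ0) h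
    omega
  rw [hL]
  exact (fact_mul_right hP0 hZ0 hnd).symm

end psl

section main

variable {K : Type*} [Field K] [Fintype K] {m : ℕ}

theorem sylow_cyclic (hm : 1 ≤ m) (hK : Fintype.card K = 3 ^ (2 * m + 1)) {p : ℕ}
    [Fact p.Prime] (hp : 3 < p) (P : Sylow p ↥(twistedG2 K (3 ^ m))) :
    IsCyclic (P : Subgroup ↥(twistedG2 K (3 ^ m))) := by
  classical
  haveI := charP3 hK
  have hpp : p.Prime := Fact.out
  have hcard := card_twisted hK
  rw [← hK] at hcard
  set q := Fintype.card K with hq
  have hq3 : 3 ≤ q := by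
    rw [hK]
    calc 3 = 3 ^ 1 := by norm_num
      _ ≤ 3 ^ (2 * m + 1) := Nat.pow_le_pow_right (by norm_num) (by omega)
  have hq1 : 1 ≤ q := by omega
  have hpq : ¬ p ∣ q := by
    intro h
    rw [hK] at h
    have := Nat.le_of_dvd (by norm_num) (hpp.dvd_of_dvd_pow h)
    omega
  have hq30 : q ^ 3 ≠ 0 := by positivity
  have hqm0 : q - 1 ≠ 0 := by omega
  have hqc0 : q ^ 3 + 1 ≠ 0 := by positivity
  have hfin : Finite ↥(twistedG2 K (3 ^ m)) :=
    Nat.finite_of_card_ne_zero (by rw [hcard]; exact mul_ne_zero (mul_ne_zero hq30 hqm0) hqc0)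
  by_cases hdvd : p ∣ Nat.card ↥(twistedG2 K (3 ^ m))
  swap
  · have h1 : Nat.card (P : Subgroup ↥(twistedG2 K (3 ^ m))) = 1 := by
      rw [P.card_eq_multiplicity, Nat.factorization_eq_zero_of_not_dvd hdvd, pow_zero]
    have : Subsingleton (P : Subgroup ↥(twistedG2 K (3 ^ m))) :=
      (Nat.card_eq_one_iff_unique.1 h1).1
    exact isCyclic_of_subsingleton
  rw [hcard] at hdvd
  rcases hpp.dvd_mul.1 hdvd with h | h
  · rcases hpp.dvd_mul.1 h with h | h
    · exact absurd (hpp.dvd_of_dvd_pow h) hpq
    · -- `p ∣ q - 1`: the diagonal subgroup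
      let H : Subgroup ↥(twistedG2 K (3 ^ m)) :=
        (chevG2.diagonalSubgroup K ⊓ twistedG2 K (3 ^ m)).subgroupOf (twistedG2 K (3 ^ m))
      have eH : H ≃* ↥(chevG2.diagonalSubgroup K ⊓ twistedG2 K (3 ^ m)) :=
        Subgroup.subgroupOfEquivOfLe inf_le_right
      have hHcard : Nat.card H = q - 1 := by
        rw [Nat.card_congr eH.toEquiv, card_diag_twisted hK, hK]
      have hcyc0 : IsCyclic ↥(chevG2.diagonalSubgroup K ⊓ twistedG2 K (3 ^ m)) := by
        haveI := isCyclic_diag_fixed hK
        have hle : chevG2.diagonalSubgroup K ⊓ twistedG2 K (3 ^ m)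
            ≤ chevG2.diagonalSubgroup K ⊓ fixR hK :=
          inf_le_inf_left _ (twisted_le_fixR hK)
        exact isCyclic_of_injective (Subgroup.inclusion hle) (Subgroup.inclusion_injective hle)
      haveI hHcyc : IsCyclic H := isCyclic_of_injective eH.toMonoidHom eH.injective
      have hx : (q : ZMod p) = 1 := (dvd_pred_iff q hq1).1 h
      have hn3 : ¬ p ∣ q ^ 3 + 1 := by
        rw [← ZMod.natCast_eq_zero_iff]
        push_cast
        rw [hx]
        intro h'
        apply zmod_two_ne hp
        linear_combination h'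
      have hv : (Nat.card ↥(twistedG2 K (3 ^ m))).factorization p
          = (Nat.card H).factorization p := by
        rw [hcard, hHcard, fact_mul_right (mul_ne_zero hq30 hqm0) hqc0 hn3,
          fact_mul_left hq30 hqm0 (fun h' => hpq (hpp.dvd_of_dvd_pow h'))]
      exact pgroup_cyclic_of_sub p H (fun Q _ => inferInstance) hv P P.isPGroup'
  · rw [cube_succ q hq1] at h
    have hqs0 : q + 1 ≠ 0 := by omega
    have hqq0 : q * (q - 1) + 1 ≠ 0 := by omega
    rcases hpp.dvd_mul.1 h with h | h
    · -- `p ∣ q + 1`: the centraliser of an involution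
      have hx : (q : ZMod p) = -1 := (dvd_succ_iff q).1 h
      have hp1 : ¬ p ∣ q - 1 := by
        rw [dvd_pred_iff q hq1, hx]
        intro h'
        apply zmod_two_ne hp
        linear_combination -h'
      have hnC : ¬ p ∣ q * (q - 1) + 1 := by
        rw [dvd_quad_iff q hq1, hx]
        intro h'
        apply zmod_three_ne hp
        linear_combination h'
      let a : ↥(twistedG2 K (3 ^ m)) := ⟨zz K m, zz_mem⟩
      have haH : (a : GL chevG2.Idx K) ∈ chevG2.diagonalSubgroup K := zz_mem_diag
      have ha1 : a ≠ 1 := fun h' => zz_ne_one (congrArg Subtype.val h')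
      have ha2 : a * a = 1 := Subtype.ext zz_mul_self
      obtain ⟨e⟩ := cent_iso hK a haH ha1 ha2
      have hHp : ∀ Q : Subgroup ↥(Subgroup.centralizer {a}), IsPGroup p Q → IsCyclic Q :=
        pgroup_cyclic_of_injective p e.toMonoidHom e.injective
          (two_psl2_pgroup_cyclic K p (by omega) hpq hp1)
      have hHcard : Nat.card ↥(Subgroup.centralizer {a})
          = 2 * Nat.card (Matrix.ProjectiveSpecialLinearGroup (Fin 2) K) := by
        rw [Nat.card_congr e.toEquiv, Nat.card_prod]
        congr 1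
        simp
      have hSL := Cfsg.Agent.Lib.Helper8.FourOrb.card_sl2 (F := K) q (by omega) rfl
      have hP0 : Nat.card (Matrix.ProjectiveSpecialLinearGroup (Fin 2) K) ≠ 0 := Nat.card_pos.ne'
      have hn2 : ¬ p ∣ 2 := fun h' => by
        have := Nat.le_of_dvd (by norm_num) h'
        omega
      have hnqq : ¬ p ∣ q * (q - 1) := fun h' => by
        rcases hpp.dvd_mul.1 h' with h'' | h''
        · exact hpq h''
        · exact hp1 h''
      have hv : (Nat.card ↥(twistedG2 K (3 ^ m))).factorization p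
          = (Nat.card ↥(Subgroup.centralizer {a})).factorization p := by
        rw [hcard, hHcard, fact_mul_left (by norm_num) hP0 hn2, fact_psl2 K p (by omega), hSL,
          fact_mul_right hqs0 (mul_ne_zero (by omega) hqm0) hnqq, cube_succ q hq1,
          fact_mul_left (mul_ne_zero hq30 hqm0) (mul_ne_zero hqs0 hqq0)
            (fun h' => by
              rcases hpp.dvd_mul.1 h' with h'' | h''
              · exact hpq (hpp.dvd_of_dvd_pow h'')
              · exact hp1 h''),
          fact_mul_right hqs0 hqq0 hnC]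
      exact pgroup_cyclic_of_sub p _ hHp hv P P.isPGroup'
    · -- `p ∣ q² - q + 1`: the 7-dimensional representation
      have hC := (dvd_quad_iff q hq1).1 h
      have honly : ∀ j, 1 ≤ j → j ≤ Fintype.card Jt → p ∣ Fintype.card K ^ j - 1 → j = 6 := by
        intro j hj1 hj7 hj
        rw [card_Jt] at hj7
        rw [dvd_pow_sub_one_iff q j hq1] at hj
        exact zmod_six hp _ hC j hj1 hj7 hj
      exact pgroup_cyclic_of_injective p (rhoT hK) (rhoT_injective hK hm)
        (glcyc K Jt 6 p hpq (by norm_num) (by rw [card_Jt]; norm_num) honly) P P.isPGroup'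

end main

end Cfsg.Agent.Lib.Helper8.ReeSyl
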