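import Cfsg.Agent.Lib.Helper5.Ree.Simple
import Mathlib

/-!
# A faithful 7-dimensional representation of the small Ree groups (helper8)

In characteristic 3 the span `W` of the short root vectors and the coroot of the short simple root
is invariant under the adjoint Chevalley group of type `G₂`; the action on the quotient by `W`
(coordinates: the second fundamental coroot and the long root vectors) is a homomorphism to
`GL₇`, injective on the simple group `²G₂(q)`.
-/

set_option autoImplicit false

namespace Cfsg.Agent.Lib.Helper8.ReeSyl

open Cfsg.Lie Cfsg.Agent.Lib.Helper5.Chev Cfsg.Agent.Lib.Helper5.Ree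
open scoped Matrix

/-- the long roots of the table of type `G₂` -/
def isLong (r : ℕ) : Bool := r == 0 || r == 1 || r == 5 || r == 6 || r == 10 || r == 11

theorem ck_cartan : ∀ r : Fin 12, isLong r.val = true →
    (3 : ℤ) ∣ (chevG2.cartanSR.getD 0 #[]).getD r.val 0 := by decide +kernel

theorem ck_coroot : ∀ r s : Fin 12, isLong s.val = false → s.val = chevG2.negIdx.getD r.val 0 →
    isLong r.val = false ∧ (3 : ℤ) ∣ (chevG2.coroot.getD r.val #[]).getD 1 0 := by decide +kernel

theorem ck_chain : ∀ r s u : Fin 12, isLong s.val = false → isLong u.val = true →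
    ∀ km ∈ chevG2.chainCoeff r.val s.val u.val, (3 : ℤ) ∣ km.2 := by decide +kernel

/-- the coordinates of the quotient: the second coroot and the long roots -/
def inJ : chevG2.Idx → Bool
  | Sum.inl i => i.val == 1
  | Sum.inr r => isLong r.val

section tri

variable {K : Type*} [Field K]

/-- block triangular shape: no entry from a coordinate of `W` to a coordinate of the quotient -/
def Tri (M : Matrix chevG2.Idx chevG2.Idx K) : Prop :=
  ∀ row col, inJ row = true → inJ col = false → M row col = 0

theorem tri_one : Tri (1 : Matrix chevG2.Idx chevG2.Idx K) := by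
  intro row col hr hc
  rw [Matrix.one_apply, if_neg]
  intro h
  rw [h, hc] at hr
  exact Bool.noConfusion hr

theorem Tri.mul {A B : Matrix chevG2.Idx chevG2.Idx K} (hA : Tri A) (hB : Tri B) :
    Tri (A * B) := by
  intro row col hr hc
  rw [Matrix.mul_apply]
  apply Finset.sum_eq_zero
  intro k _
  by_cases hk : inJ k = true
  · rw [hB k col hk hc, mul_zero]
  · rw [hA row k hr (by simpa using hk), zero_mul]

/-- the index type of the quotient -/
abbrev Jt : Type := {a : chevG2.Idx // inJ a = true}

theorem card_Jt : Fintype.card Jt = 7 := by decide +kernel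

/-- the diagonal block on the quotient coordinates -/
def blk (M : Matrix chevG2.Idx chevG2.Idx K) : Matrix Jt Jt K :=
  M.submatrix Subtype.val Subtype.val

theorem blk_one : blk (1 : Matrix chevG2.Idx chevG2.Idx K) = 1 := by
  ext a b
  simp only [blk, Matrix.submatrix_apply, Matrix.one_apply, Subtype.ext_iff]

theorem blk_mul {A B : Matrix chevG2.Idx chevG2.Idx K} (hA : Tri A) :
    blk (A * B) = blk A * blk B := by
  ext a b
  simp only [blk, Matrix.submatrix_apply, Matrix.mul_apply]
  rw [← Finset.sum_filter_add_sum_filter_not Finset.univ (fun k => inJ k = true)]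
  have h2 : ∑ k ∈ Finset.univ.filter (fun k => ¬ inJ k = true), A a.1 k * B k b.1 = 0 := by
    apply Finset.sum_eq_zero
    intro k hk
    rw [Finset.mem_filter] at hk
    rw [hA a.1 k a.2 (by simpa using hk.2), zero_mul]
  rw [h2, add_zero]
  exact Finset.sum_subtype _ (fun k => by simp) _

/-- the subgroup of block triangular matrices -/
def triSub (K : Type*) [Field K] : Subgroup (GL chevG2.Idx K) where
  carrier := {g | Tri (g : Matrix chevG2.Idx chevG2.Idx K) ∧
    Tri ((g⁻¹ : GL chevG2.Idx K) : Matrix chevG2.Idx chevG2.Idx K)}
  mul_mem' := by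
    rintro a b ⟨ha, ha'⟩ ⟨hb, hb'⟩
    refine ⟨?_, ?_⟩
    · rw [Units.val_mul]; exact ha.mul hb
    · rw [mul_inv_rev, Units.val_mul]; exact hb'.mul ha'
  one_mem' := ⟨tri_one, by rw [inv_one]; exact tri_one⟩
  inv_mem' := by
    rintro a ⟨ha, ha'⟩
    exact ⟨ha', by rw [inv_inv]; exact ha⟩

/-- the representation on the quotient -/
def rho (K : Type*) [Field K] : ↥(triSub K) →* GL Jt K where
  toFun g := ⟨blk (g.1 : Matrix chevG2.Idx chevG2.Idx K),
    blk ((g.1⁻¹ : GL chevG2.Idx K) : Matrix chevG2.Idx chevG2.Idx K),
    by rw [← blk_mul g.2.1, ← Units.val_mul, mul_inv_cancel, Units.val_one, blk_one],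
    by rw [← blk_mul g.2.2, ← Units.val_mul, inv_mul_cancel, Units.val_one, blk_one]⟩
  map_one' := Units.ext blk_one
  map_mul' a b := Units.ext (blk_mul a.2.1)

theorem rho_val (g : ↥(triSub K)) :
    ((rho K g : GL Jt K) : Matrix Jt Jt K) = blk (g.1 : Matrix chevG2.Idx chevG2.Idx K) := rfl

end tri

section char3

variable {K : Type*} [Field K] [CharP K 3]

theorem cast3 (z : ℤ) (h : (3 : ℤ) ∣ z) : ((z : ℤ) : K) = 0 :=
  (CharP.intCast_eq_zero_iff K 3 z).2 (by exact_mod_cast h)

/-- the root elements are block triangular in characteristic 3 -/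
theorem xMat_tri (r : Fin chevG2.nroots) (t : K) : Tri (chevG2.xMat K r t) := by
  intro row col hr hc
  rcases col with i | s
  · rcases row with i' | u
    · simp only [ChevalleyDatum.xMat, Matrix.of_apply]
      rw [if_neg]
      intro h
      rw [h] at hr
      rw [hr] at hc
      exact Bool.noConfusion hc
    · simp only [ChevalleyDatum.xMat, Matrix.of_apply]
      split_ifs with h
      · subst h
        have hi : i.val = 0 := by
          have h1 : (i.val == 1) = false := hc
          have := i.2
          have h2 : chevG2.rank = 2 := rfl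
          simp at h1
          omega
        rw [hi, cast3 _ (ck_cartan u hr)]
        simp
      · rfl
  · have hs : isLong s.val = false := hc
    simp only [ChevalleyDatum.xMat, Matrix.of_apply]
    split_ifs with h1 h2
    · rcases row with i' | u
      · rfl
      · simp only
        rw [if_neg]
        intro h
        have hu : isLong u.val = true := hr
        rw [h, ← h1, hs] at hu
        exact Bool.noConfusion hu
    · obtain ⟨hrs, h3⟩ := ck_coroot r s hs h2
      rcases row with i' | u
      · simp only
        have hi : i'.val = 1 := by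
          have h1 : (i'.val == 1) = true := hr
          simpa using h1
        rw [hi, cast3 _ h3, zero_mul]
      · have hu : isLong u.val = true := hr
        simp only
        rw [if_neg, if_neg]
        · intro h; rw [h, hrs] at hu; exact Bool.noConfusion hu
        · intro h; rw [h, hs] at hu; exact Bool.noConfusion hu
    · rcases row with i' | u
      · rfl
      · have hu : isLong u.val = true := hr
        simp only
        rw [if_neg, zero_add]
        · apply List.sum_eq_zero
          intro x hx
          rw [List.mem_map] at hx
          obtain ⟨km, hkm, rfl⟩ := hx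
          rw [cast3 _ (ck_chain r s u hs hu km hkm), zero_mul]
        · intro h; rw [h, hs] at hu; exact Bool.noConfusion hu

/-- the Chevalley group of type `G₂` in characteristic 3 is block triangular -/
theorem group_le_triSub : chevG2.group K ≤ triSub K := by
  unfold ChevalleyDatum.group
  rw [Subgroup.closure_le]
  rintro g ⟨r, t, hg⟩
  have hadd : AllAdd K chevG2 := allAdd_all chevG2 (by simp)
  have e : g = hadd.xU r.val t := Units.ext (hg.trans (x_eq_xMat r.val r.2 t).symm)
  refine ⟨?_, ?_⟩
  · rw [hg]; exact xMat_tri r t
  · rw [e, xU_inv, hadd.xU_val, x_eq_xMat r.val r.2]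
    exact xMat_tri r (-t)

end char3

end Cfsg.Agent.Lib.Helper8.ReeSyl
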