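import Mathlib

/-!
# Transferring cyclicity of `p`-subgroups from a subgroup of full `p`-part (helper8)
-/

set_option autoImplicit false

namespace Cfsg.Agent.Lib.Helper8.ReeSyl

section sylow

variable {G : Type*} [Group G] [Finite G] (p : ℕ) [Fact p.Prime]

/-- if a subgroup `H` carries the full `p`-part of the order of `G` and all its `p`-subgroups are
cyclic, then all `p`-subgroups of `G` are cyclic -/
theorem pgroup_cyclic_of_sub (H : Subgroup G)
    (hH : ∀ Q : Subgroup H, IsPGroup p Q → IsCyclic Q)
    (hv : (Nat.card G).factorization p = (Nat.card H).factorization p)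
    (Q : Subgroup G) (hQ : IsPGroup p Q) : IsCyclic Q := by
  classical
  have S₀ : Sylow p H := default
  have hS₀ : IsCyclic (S₀ : Subgroup H) := hH S₀ S₀.isPGroup'
  let S : Subgroup G := (S₀ : Subgroup H).map H.subtype
  have eS : (S₀ : Subgroup H) ≃* S :=
    (S₀ : Subgroup H).equivMapOfInjective H.subtype H.subtype_injective
  have hScard : Nat.card S = p ^ (Nat.card G).factorization p := by
    rw [hv, ← Sylow.card_eq_multiplicity S₀]
    exact Nat.card_congr eS.symm.toEquiv
  have hScyc : IsCyclic S := isCyclic_of_surjective eS eS.surjective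
  let T : Sylow p G := Sylow.ofCard S hScard
  obtain ⟨R, hR⟩ := hQ.exists_le_sylow
  obtain ⟨g, hg⟩ := MulAction.exists_smul_eq G T R
  have hTcyc : IsCyclic (T : Subgroup G) := hScyc
  have eR : (T : Subgroup G) ≃* (R : Subgroup G) := by
    rw [← hg]
    exact Sylow.equivSMul T g
  have hRcyc : IsCyclic (R : Subgroup G) := isCyclic_of_surjective eR eR.surjective
  exact isCyclic_of_injective (Subgroup.inclusion hR) (Subgroup.inclusion_injective hR)

end sylow

end Cfsg.Agent.Lib.Helper8.ReeSyl
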